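import Mathlib.GroupTheory.Subgroup.Centralizer
import Mathlib.Data.Nat.Bitwise
import Cfsg.Agent.Lib.UFourType.Data

/-!
# The interface: the centraliser as codes, the element cycling three central involutions, the relations
-/

set_option autoImplicit false

namespace CfsgLib.UFourType

/-- An entry of a packed row. -/
def uGet (T : List ℕ) (w i j : ℕ) : ℕ := ((T.getD i 0) >>> (w * j)) % 2 ^ w

/-- A product in the normal subgroup. -/
def uQ (v w : ℕ) : ℕ := uGet qTab 5 v w

/-- The product of two codes. -/
def uMul (c d : ℕ) : ℕ :=
  uQ (uQ (c % 32) (uGet aTab 5 (c / 32) (d % 32))) (uGet mTab 11 (c / 32) (d / 32) % 32)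
    + 32 * (uGet mTab 11 (c / 32) (d / 32) / 32)

/-- The code of the involution. -/
def zC : ℕ := 1

/-- Its partner in the normal subgroup. -/
def zpC : ℕ := 2

/-- An element of order three of the meet with the normaliser, centralising `zC` and `zaC`. -/
def aC : ℕ := 1132

/-- An involution of the elementary subgroup centralised by `aC`. -/
def zaC : ℕ := 966

/-- An element of order three centralising `aC`, inverted by `zaC`. -/
def xC : ℕ := 1054

variable {G : Type*} [Group G]

/-- The centraliser of `z` is coded by `el`; the codes below 32 form the normal subgroup of order 32. -/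
structure Code (z : G) (el : ℕ → G) : Prop where
  one : el 0 = 1
  mul : ∀ c d, c < 1152 → d < 1152 → uMul c d < 1152 ∧ el c * el d = el (uMul c d)
  mem : ∀ c, c < 1152 → el c ∈ Subgroup.centralizer ({z} : Set G)
  inj : ∀ c d, c < 1152 → d < 1152 → el c = el d → c = d
  surj : ∀ g ∈ Subgroup.centralizer ({z} : Set G), ∃ c, c < 1152 ∧ el c = g
  z_eq : el zC = z

/-- The value of a letter. -/
def evL (el : ℕ → G) (s : G) (a : ℕ) : G := if a < 1152 then el a else s ^ (a - 1152)

/-- The value of a word. -/
def evW (el : ℕ → G) (s : G) (w : List ℕ) : G := (w.map (evL el s)).prod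

/-- The element cycling the involutions of the four-group with its rules on the meet. -/
structure Cyc (el : ℕ → G) (s : G) : Prop where
  cube : s ^ 3 = 1
  tab : ∀ p ∈ psiT, el p.1 * s = s * el p.2
  rel_one : evW el s relOne = 1
  rel_two : evW el s relTwo = 1

/-- The element centralising the element of order three and moving `zaC`. -/
def mEl (el : ℕ → G) (s : G) : G := evW el s mWord

end CfsgLib.UFourType
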